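import Groth.Agent.DivPts.Cartier
import Mathlib.AlgebraicGeometry.Fiber
import Mathlib.AlgebraicGeometry.Morphisms.Preimmersion

/-!
# The fibre along a section cut out by one equation
-/

noncomputable section

universe u

open CategoryTheory CategoryTheory.Limits AlgebraicGeometry Opposite TopologicalSpace
open Groth.Agent.QCohBase

namespace Groth.Agent.DivPts

/-- If a section of `A → O` is cut out by a nonzerodivisor `t`, then no power of `t` lies in the
ideal generated by the maximal ideal of `A`. -/
theorem pow_notMem_map_maximalIdeal {A O C : Type u} [CommRing A] [IsLocalRing A] [CommRing O]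
    [IsLocalRing O] [CommRing C] (φ : A →+* O) [IsLocalHom φ] (σ : O →+* C)
    (hψ : Function.Bijective (σ.comp φ)) {t : O} (ht : t ∈ nonZeroDivisors O)
    (hker : RingHom.ker σ = Ideal.span {t}) :
    ∀ n : ℕ, t ^ n ∉ (IsLocalRing.maximalIdeal A).map φ := by
  intro n
  have hJ : (IsLocalRing.maximalIdeal A).map φ ≤ IsLocalRing.maximalIdeal O := by
    refine Ideal.map_le_iff_le_comap.2 fun a ha => ?_
    rw [Ideal.mem_comap, IsLocalRing.mem_maximalIdeal, mem_nonunits_iff, isUnit_map_iff]
    exact ha
  induction n with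
  | zero =>
    rw [pow_zero]
    exact fun h => (IsLocalRing.maximalIdeal.isMaximal O).ne_top
      ((Ideal.eq_top_iff_one _).2 (hJ h))
  | succ n ih =>
    intro h
    have hdec : ∀ y ∈ (IsLocalRing.maximalIdeal A).map φ, ∃ a : A, ∃ j ∈
        (IsLocalRing.maximalIdeal A).map φ, y = φ a + t * j := by
      intro y hy
      induction hy using Submodule.span_induction with
      | mem z hz =>
        obtain ⟨a, ha, rfl⟩ := hz
        exact ⟨a, 0, zero_mem _, by rw [mul_zero, add_zero]⟩
      | zero => exact ⟨0, 0, zero_mem _, by rw [map_zero, mul_zero, add_zero]⟩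
      | add p q _ _ hp hq =>
        obtain ⟨a, j, hj, rfl⟩ := hp
        obtain ⟨b, k, hk, rfl⟩ := hq
        exact ⟨a + b, j + k, add_mem hj hk, by rw [map_add]; ring⟩
      | smul c p hp' hp =>
        obtain ⟨a, j, hj, rfl⟩ := hp
        have ha : φ a ∈ (IsLocalRing.maximalIdeal A).map φ := by
          have := sub_mem hp' (Ideal.mul_mem_left _ t hj)
          rwa [add_sub_cancel_right] at this
        obtain ⟨b, hb⟩ := hψ.2 (σ c)
        obtain ⟨e, he⟩ : t ∣ c - φ b := by
          rw [← Ideal.mem_span_singleton, ← hker, RingHom.mem_ker, map_sub, ← hb]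
          exact sub_self _
        refine ⟨b * a, c * j + e * φ a, add_mem (Ideal.mul_mem_left _ _ hj)
          (Ideal.mul_mem_left _ _ ha), ?_⟩
        rw [smul_eq_mul, map_mul, show c = φ b + t * e by rw [← he]; ring]
        ring
    obtain ⟨a, j, hj, he⟩ := hdec _ h
    have hσ : σ t = 0 := by
      rw [← RingHom.mem_ker, hker]; exact Ideal.mem_span_singleton_self t
    have ha : a = 0 := hψ.1 (by
      have := congrArg σ he
      rw [map_add, map_mul, map_pow, hσ, zero_mul, add_zero, zero_pow n.succ_ne_zero] at this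
      rw [map_zero]
      exact this.symm)
    rw [ha, map_zero, zero_add, pow_succ'] at he
    have : t ^ n = j := by
      rw [← sub_eq_zero]
      exact (mem_nonZeroDivisors_iff.1 ht).1 _ (by rw [mul_sub, he, sub_self])
    exact ih (this ▸ hj)

/-- A Noetherian local ring with principal maximal ideal generated by a non-nilpotent element is a
discrete valuation ring. -/
theorem isDVR_of_maximalIdeal_eq_span_of_pow {R : Type u} [CommRing R] [IsLocalRing R]
    [IsNoetherianRing R] {t : R} (ht : ∀ n : ℕ, t ^ n ≠ 0)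
    (hm : IsLocalRing.maximalIdeal R = Ideal.span {t}) :
    ∃ _ : IsDomain R, IsDiscreteValuationRing R := by
  refine isDVR_of_maximalIdeal_eq_span (mem_nonZeroDivisors_iff_right.2 fun a ha => ?_) hm
  have key : ∀ n : ℕ, a ∈ IsLocalRing.maximalIdeal R ^ n := by
    intro n
    induction n with
    | zero => simp
    | succ n ih =>
      rw [hm, Ideal.span_singleton_pow, Ideal.mem_span_singleton'] at ih ⊢
      obtain ⟨b, rfl⟩ := ih
      rcases em (IsUnit b) with hb | hb
      · exact absurd (hb.mul_right_eq_zero.1 (by rw [← ha]; ring)) (ht (n + 1))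
      · have hb' : b ∈ IsLocalRing.maximalIdeal R := hb
        rw [hm, Ideal.mem_span_singleton'] at hb'
        obtain ⟨c, rfl⟩ := hb'
        exact ⟨c, by ring⟩
  have hmem : a ∈ ⨅ n : ℕ, IsLocalRing.maximalIdeal R ^ n := Ideal.mem_iInf.2 key
  rwa [Ideal.iInf_pow_eq_bot_of_isLocalRing _ (IsLocalRing.maximalIdeal.isMaximal R).ne_top] at hmem

variable {X V : Scheme.{u}}

/-- The kernel of the stalk map of the inclusion of a fibre. -/
theorem ker_fiberι_stalkMap_le (f : V ⟶ X) (y : X) (w : f.fiber y) :
    RingHom.ker ((f.fiberι y).stalkMap w).hom ≤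
      (IsLocalRing.maximalIdeal (X.presheaf.stalk (f (f.fiberι y w)))).map
        (f.stalkMap (f.fiberι y w)).hom := by
  intro a ha
  let z := f.fiberι y w
  let J := (IsLocalRing.maximalIdeal (X.presheaf.stalk (f z))).map (f.stalkMap z).hom
  have hy : f z = y := by
    have h := congr($(f.fiber_fac y) w)
    simp only [Scheme.Hom.comp_apply] at h
    exact h.trans (X.fromSpecResidueField_apply _ _)
  have hJ : J ≠ ⊤ := fun h => by
    have hle : J ≤ IsLocalRing.maximalIdeal (V.presheaf.stalk z) := by
      refine Ideal.map_le_iff_le_comap.2 fun a ha => ?_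
      rw [Ideal.mem_comap, IsLocalRing.mem_maximalIdeal, mem_nonunits_iff, isUnit_map_iff]
      exact ha
    exact (IsLocalRing.maximalIdeal.isMaximal _).ne_top (top_unique (h ▸ hle))
  haveI : Nontrivial (V.presheaf.stalk z ⧸ J) := Ideal.Quotient.nontrivial_iff.2 hJ
  let Q : CommRingCat.{u} := CommRingCat.of (V.presheaf.stalk z ⧸ J)
  let q : V.presheaf.stalk z ⟶ Q := CommRingCat.ofHom (Ideal.Quotient.mk J)
  haveI : IsLocalRing Q := IsLocalRing.of_surjective' (Ideal.Quotient.mk J) Ideal.Quotient.mk_surjective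
  haveI : IsLocalHom q.hom := IsLocalHom.of_surjective (Ideal.Quotient.mk J) Ideal.Quotient.mk_surjective
  let π0 : X.residueField (f z) ⟶ Q := CommRingCat.ofHom
    (Ideal.Quotient.lift (IsLocalRing.maximalIdeal (X.presheaf.stalk (f z)))
      ((Ideal.Quotient.mk J).comp (f.stalkMap z).hom)
      (fun b hb => Ideal.Quotient.eq_zero_iff_mem.2 (Ideal.mem_map_of_mem _ hb)))
  have hπ0 : X.residue (f z) ≫ π0 = f.stalkMap z ≫ q := by ext b; rfl
  let g : Spec Q ⟶ V := Spec.map q ≫ V.fromSpecStalk z
  let h : Spec Q ⟶ Spec (X.residueField y) :=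
    Spec.map π0 ≫ Spec.map (X.residueFieldCongr hy.symm).hom
  have hgh : g ≫ f = h ≫ X.fromSpecResidueField y := by
    simp only [g, h, Category.assoc, Scheme.residueFieldCongr_fromSpecResidueField]
    rw [← Scheme.SpecMap_stalkMap_fromSpecStalk, ← Spec.map_comp_assoc, ← hπ0, Spec.map_comp_assoc]
    rfl
  let l : Spec Q ⟶ f.fiber y := pullback.lift g h hgh
  have hl : l ≫ f.fiberι y = g := pullback.lift_fst _ _ _
  have hgz : g (IsLocalRing.closedPoint Q) = z := by
    simp only [g, Scheme.Hom.comp_apply]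
    rw [Spec_closedPoint, Scheme.fromSpecStalk_closedPoint]
  have hlw : l (IsLocalRing.closedPoint Q) = w := by
    refine (f.fiberι y).isEmbedding.injective ?_
    rw [← Scheme.Hom.comp_apply, hl, hgz]
  obtain ⟨W, hzW, a', rfl⟩ := TopCat.Presheaf.exists_germ_eq V.presheaf a
  rw [RingHom.mem_ker] at ha
  have h0 : ((f.fiber y).presheaf.germ ((f.fiberι y) ⁻¹ᵁ W) w hzW).hom
      (((f.fiberι y).app W).hom a') = 0 :=
    ((f.fiberι y).germ_stalkMap_apply W w hzW a').symm.trans ha
  have transfer : ∀ (w' : f.fiber y), w' = w → ∀ (hw' : w' ∈ (f.fiberι y) ⁻¹ᵁ W),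
      ((f.fiber y).presheaf.germ ((f.fiberι y) ⁻¹ᵁ W) w' hw').hom
        (((f.fiberι y).app W).hom a') = 0 := by
    rintro _ rfl hw'
    exact h0
  have hgW : g (IsLocalRing.closedPoint Q) ∈ W := hgz.symm ▸ hzW
  have hlW : (l ≫ f.fiberι y) (IsLocalRing.closedPoint Q) ∈ W := hl.symm ▸ hgW
  have h1 : ∀ (g' : Spec Q ⟶ V), l ≫ f.fiberι y = g' →
      ∀ (hg' : g' (IsLocalRing.closedPoint Q) ∈ W),
      (Scheme.stalkClosedPointTo g').hom ((V.presheaf.germ W _ hg').hom a') = 0 := by
    rintro _ rfl hg'
    rw [Scheme.stalkClosedPointTo_comp]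
    show (Scheme.stalkClosedPointTo l).hom _ = 0
    have e := (f.fiberι y).germ_stalkMap_apply W (l (IsLocalRing.closedPoint Q)) hg' a'
    exact (congrArg (Scheme.stalkClosedPointTo l).hom (e.trans (transfer _ hlw hg'))).trans
      (map_zero _)
  have h2 := h1 g hl hgW
  have h3 := congr($(Scheme.germ_stalkClosedPointTo_Spec_fromSpecStalk q W hgW).hom a')
  exact Ideal.Quotient.eq_zero_iff_mem.1 (h3.symm.trans h2)

/-- The maximal ideal of the base kills the fibre. -/
theorem stalkMap_fiberι_eq_zero (f : V ⟶ X) (y : X) (w : f.fiber y)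
    {a : X.presheaf.stalk (f (f.fiberι y w))} (ha : a ∈ IsLocalRing.maximalIdeal _) :
    ((f.fiberι y).stalkMap w).hom ((f.stalkMap (f.fiberι y w)).hom a) = 0 := by
  have h1 : ((f.fiberι y ≫ f).stalkMap w).hom a = 0 := by
    have key : ∀ (F : f.fiber y ⟶ X), F = f.fiberToSpecResidueField y ≫ X.fromSpecResidueField y →
        ∀ a : X.presheaf.stalk (F w), a ∈ IsLocalRing.maximalIdeal _ →
        (F.stalkMap w).hom a = 0 := by
      rintro _ rfl a ha
      rw [Scheme.Hom.stalkMap_comp]
      show ((f.fiberToSpecResidueField y).stalkMap w).hom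
        (((X.fromSpecResidueField y).stalkMap _).hom a) = 0
      have hz : ((X.fromSpecResidueField y).stalkMap (f.fiberToSpecResidueField y w)).hom a = 0 := by
        haveI : IsDomain ((Spec (X.residueField y)).presheaf.stalk (f.fiberToSpecResidueField y w)) :=
          inferInstance
        have hF : IsField ((Spec (X.residueField y)).presheaf.stalk
            (f.fiberToSpecResidueField y w)) := by
          have hp : f.fiberToSpecResidueField y w = genericPoint (Spec (X.residueField y)) :=
            Subsingleton.elim (α := PrimeSpectrum _) _ _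
          rw [hp]
          exact (inferInstance : Field (Spec (X.residueField y)).functionField).toIsField
        by_contra hne
        obtain ⟨b, hb⟩ := hF.mul_inv_cancel hne
        exact ha (((X.fromSpecResidueField y).toLRSHom.prop
          (f.fiberToSpecResidueField y w)).map_nonunit a (IsUnit.of_mul_eq_one _ hb))
      rw [hz, map_zero]
    exact key _ (f.fiber_fac y) a ha
  rw [Scheme.Hom.stalkMap_comp] at h1
  exact h1

/-- Kernel of the stalk map of a closed immersion whose ideal is principal near the point. -/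
theorem ker_stalkMap_eq_span (j : X ⟶ V) [IsClosedImmersion j] (U : V.affineOpens) {f : Γ(V, U.1)}
    (hf : j.ker.ideal U = Ideal.span {f}) (x : X) (hx : j x ∈ U.1) :
    RingHom.ker (j.stalkMap x).hom = Ideal.span {(V.presheaf.germ U.1 (j x) hx).hom f} := by
  refine le_antisymm (fun a ha => ?_) ?_
  · obtain ⟨g, r, hg, hr⟩ := AssPts.exists_ringGerm_mul_eq U.2 (j x) hx a
    rw [RingHom.mem_ker] at ha
    have h0 : (X.presheaf.germ (j ⁻¹ᵁ U.1) x hx).hom ((j.app U.1).hom r) = 0 := by
      rw [← j.germ_stalkMap_apply U.1 x hx r]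
      have := congrArg (j.stalkMap x).hom hr
      rw [map_mul, ha, zero_mul] at this
      exact this.symm
    haveI := U.2.preimage j
    letI := (X.presheaf.germ (j ⁻¹ᵁ U.1) x hx).hom.toAlgebra
    haveI : IsLocalization.AtPrime (X.presheaf.stalk x) ((U.2.preimage j).primeIdealOf ⟨x, hx⟩).asIdeal :=
      (U.2.preimage j).isLocalization_stalk ⟨x, hx⟩
    obtain ⟨⟨h, hh⟩, hhr⟩ := (IsLocalization.map_eq_zero_iff
      ((U.2.preimage j).primeIdealOf ⟨x, hx⟩).asIdeal.primeCompl (X.presheaf.stalk x) _).1 h0
    obtain ⟨h', rfl⟩ := j.app_surjective U.1 U.2 h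
    have hk : h' * r ∈ j.ker.ideal U := by
      rw [Scheme.Hom.ker_apply, RingHom.mem_ker, map_mul]
      exact hhr
    rw [hf, Ideal.mem_span_singleton'] at hk
    obtain ⟨c, hc⟩ := hk
    have hh'u : IsUnit ((V.presheaf.germ U.1 (j x) hx).hom h') := by
      have hu : IsUnit ((X.presheaf.germ (j ⁻¹ᵁ U.1) x hx).hom ((j.app U.1).hom h')) :=
        IsLocalization.map_units (X.presheaf.stalk x) ⟨_, hh⟩
      rw [← j.germ_stalkMap_apply U.1 x hx h'] at hu
      exact (isUnit_map_iff (j.stalkMap x).hom _).1 hu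
    have hgu := (AssPts.notMem_prime_iff U.2 (j x) hx g).1 hg
    refine Ideal.mem_span_singleton.2 ((hh'u.mul hgu).dvd_mul_right.1 ⟨(V.presheaf.germ U.1 (j x) hx).hom c, ?_⟩)
    calc a * ((V.presheaf.germ U.1 (j x) hx).hom h' * (V.presheaf.germ U.1 (j x) hx).hom g)
        = (V.presheaf.germ U.1 (j x) hx).hom h' * (a * (V.presheaf.germ U.1 (j x) hx).hom g) := by ring
      _ = _ := by rw [hr, ← map_mul, ← hc, map_mul]; ring
  · rw [Ideal.span_singleton_le_iff_mem, RingHom.mem_ker, j.germ_stalkMap_apply]
    have : f ∈ j.ker.ideal U := hf ▸ Ideal.mem_span_singleton_self f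
    rw [Scheme.Hom.ker_apply, RingHom.mem_ker] at this
    exact (congrArg _ this).trans (map_zero _)

theorem isDVR_stalk_fiber_section (π : V ⟶ X) [LocallyOfFiniteType π] (j : X ⟶ V)
    [IsClosedImmersion j] (hj : j ≫ π = 𝟙 X) (hJ : BlowUp.IsEffCartierIdeal j.ker) (x : X) :
    ∃ _ : IsDomain ((π.fiber (π.base (j.base x))).presheaf.stalk (π.asFiber (j.base x))),
      IsDiscreteValuationRing
        ((π.fiber (π.base (j.base x))).presheaf.stalk (π.asFiber (j.base x))) := by
  set y := π.base (j.base x)
  have hw : π.fiberι y (π.asFiber (j.base x)) = j.base x := π.fiberι_asFiber (j.base x)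
  generalize π.asFiber (j.base x) = w at hw ⊢
  haveI : IsLocallyNoetherian (π.fiber y) := by
    haveI : LocallyOfFiniteType (π.fiberToSpecResidueField y) :=
      MorphismProperty.pullback_snd _ _ inferInstance
    exact LocallyOfFiniteType.isLocallyNoetherian (π.fiberToSpecResidueField y)
  obtain ⟨U, hxU, f, hf0, hf⟩ := hJ (j x)
  have data : ∀ z : V, z = j x → ∃ (C : CommRingCat.{u}) (σ : V.presheaf.stalk z →+* C)
      (t : V.presheaf.stalk z),
      t ∈ nonZeroDivisors _ ∧ Function.Bijective (σ.comp (π.stalkMap z).hom) ∧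
        RingHom.ker σ = Ideal.span {t} := by
    rintro _ rfl
    refine ⟨X.presheaf.stalk x, (j.stalkMap x).hom, _, germ_mem_nonZeroDivisors U.2 hxU hf0, ?_,
      ker_stalkMap_eq_span j U hf x hxU⟩
    haveI : IsIso (j ≫ π) := by rw [hj]; infer_instance
    have h1 : Function.Bijective ((j ≫ π).stalkMap x).hom :=
      ConcreteCategory.bijective_of_isIso ((j ≫ π).stalkMap x)
    rw [Scheme.Hom.stalkMap_comp] at h1
    exact h1
  obtain ⟨C, σ, t, ht, hψ, hker⟩ := data _ hw
  set ι := ((π.fiberι y).stalkMap w).hom with hι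
  have hsurj : Function.Surjective ι := (π.fiberι y).stalkMap_surjective w
  refine isDVR_of_maximalIdeal_eq_span_of_pow (t := ι t) (fun n hn => ?_) ?_
  · rw [← map_pow] at hn
    exact pow_notMem_map_maximalIdeal (π.stalkMap (π.fiberι y w)).hom σ hψ ht hker n
      (ker_fiberι_stalkMap_le π y w hn)
  · refine le_antisymm (fun r hr => ?_) ((Ideal.span_singleton_le_iff_mem _).2 ?_)
    · obtain ⟨a, rfl⟩ := hsurj r
      have ham : a ∈ IsLocalRing.maximalIdeal (V.presheaf.stalk (π.fiberι y w)) := fun hu =>
        hr (hu.map ι)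
      obtain ⟨b, hb⟩ := hψ.2 (σ a)
      obtain ⟨e, he⟩ : t ∣ a - (π.stalkMap (π.fiberι y w)).hom b := by
        rw [← Ideal.mem_span_singleton, ← hker, RingHom.mem_ker, map_sub, ← hb]
        exact sub_self _
      have hbm : b ∈ IsLocalRing.maximalIdeal _ := fun hu => by
        have h1 : IsUnit ((π.stalkMap (π.fiberι y w)).hom b) := hu.map _
        have h2 : t * e ∈ IsLocalRing.maximalIdeal (V.presheaf.stalk (π.fiberι y w)) := by
          refine Ideal.mul_mem_right _ _ fun htu => ?_
          have h0 : σ t = 0 := by rw [← RingHom.mem_ker, hker]; exact Ideal.mem_span_singleton_self t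
          have hu0 := htu.map σ
          rw [h0] at hu0
          haveI : Nontrivial C := (RingEquiv.ofBijective _ hψ).symm.toEquiv.nontrivial
          exact not_isUnit_zero hu0
        have h3 := sub_mem ham h2
        rw [← he, sub_sub_cancel] at h3
        exact h3 h1
      refine Ideal.mem_span_singleton.2 ⟨ι e, ?_⟩
      have : a = (π.stalkMap (π.fiberι y w)).hom b + t * e := by rw [← he]; ring
      rw [this, map_add, map_mul, stalkMap_fiberι_eq_zero π y w hbm, zero_add]
    · intro htu
      have htu' : IsUnit t := (isUnit_map_iff ι t).1 htu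
      have h0 : σ t = 0 := by rw [← RingHom.mem_ker, hker]; exact Ideal.mem_span_singleton_self t
      have hu0 := htu'.map σ
      rw [h0] at hu0
      haveI : Nontrivial C := (RingEquiv.ofBijective _ hψ).symm.toEquiv.nontrivial
      exact not_isUnit_zero hu0

end Groth.Agent.DivPts
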