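import Groth.Agent.DivPts.Basic
import Mathlib.AlgebraicGeometry.Morphisms.SchemeTheoreticallyDominant
import Mathlib.AlgebraicGeometry.Morphisms.Affine
import Mathlib.AlgebraicGeometry.Noetherian

/-!
# Effective Cartier divisors: generic points, complements, a stalk criterion
-/

noncomputable section

universe u

open CategoryTheory AlgebraicGeometry Opposite TopologicalSpace Groth.Agent.QCohBase

namespace Groth.Agent.DivPts

variable {X : Scheme.{u}}

/-- Germs of nonzerodivisors of an affine open are nonzerodivisors. -/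
theorem germ_mem_nonZeroDivisors {U : X.Opens} (hU : IsAffineOpen U) {x : X} (hx : x ∈ U)
    {f : Γ(X, U)} (hf : f ∈ nonZeroDivisors Γ(X, U)) :
    X.presheaf.germ U x hx f ∈ nonZeroDivisors (X.presheaf.stalk x) := by
  letI := (X.presheaf.germ U x hx).hom.toAlgebra
  haveI : IsLocalization.AtPrime (X.presheaf.stalk x) (hU.primeIdealOf ⟨x, hx⟩).asIdeal :=
    hU.isLocalization_stalk ⟨x, hx⟩
  rw [mem_nonZeroDivisors_iff_right]
  intro a ha
  obtain ⟨r, g, rfl⟩ := IsLocalization.exists_mk'_eq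
    (hU.primeIdealOf ⟨x, hx⟩).asIdeal.primeCompl a
  change _ * algebraMap Γ(X, U) _ f = 0 at ha
  rw [mul_comm, IsLocalization.mul_mk'_eq_mk'_of_mul, IsLocalization.mk'_eq_zero_iff] at ha
  obtain ⟨t, ht⟩ := ha
  rw [IsLocalization.mk'_eq_zero_iff]
  exact ⟨t, (mem_nonZeroDivisors_iff_right.1 hf) _ (by rw [← ht]; ring)⟩

/-- The ideal of an integral closed subscheme on an affine open meeting it is prime. -/
theorem isPrime_ideal (D : X.IdealSheafData) [IsIntegral D.subscheme] (U : X.affineOpens)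
    {x : X} (hx : x ∈ (U : X.Opens)) (hxD : x ∈ D.support) : (D.ideal U).IsPrime := by
  obtain ⟨z, hz⟩ : x ∈ Set.range D.subschemeι := D.range_subschemeι ▸ hxD
  haveI : Nonempty (D.subschemeι ⁻¹ᵁ U.1 : D.subscheme.Opens) :=
    ⟨⟨z, show D.subschemeι z ∈ U.1 from hz ▸ hx⟩⟩
  haveI : IsDomain (CommRingCat.of (Γ(X, U.1) ⧸ D.ideal U)) :=
    (D.subschemeObjIso U).commRingCatIsoToRingEquiv.symm.toMulEquiv.isDomain _
  exact (Ideal.Quotient.isDomain_iff_prime _).1 ‹_›

/-- An integral effective Cartier divisor has a DVR as local ring at its generic point. -/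
theorem isDVR_stalk [IsLocallyNoetherian X] (D : X.IdealSheafData)
    (hD : BlowUp.IsEffCartierIdeal D) [IsIntegral D.subscheme] {ξ : X}
    (hξ : IsGenericPoint ξ (D.support : Set X)) :
    ∃ _ : IsDomain (X.presheaf.stalk ξ), IsDiscreteValuationRing (X.presheaf.stalk ξ) := by
  have hξD : ξ ∈ D.support := hξ.mem
  obtain ⟨U, hx, f, hf0, hf⟩ := hD ξ
  haveI := isPrime_ideal D U hx hξD
  have hgen : ∀ y ∈ (D.support : Set X), y ⤳ ξ → y = ξ := fun y hy h =>
    ((hξ.specializes hy).antisymm h).eq.symm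
  have hmin := mem_minimalPrimes_of_maximal D U hx hξD hgen
  rw [Ideal.minimalPrimes_eq_subsingleton_self, Set.mem_singleton_iff] at hmin
  letI := (X.presheaf.germ U.1 ξ hx).hom.toAlgebra
  haveI : IsLocalization.AtPrime (X.presheaf.stalk ξ) (U.2.primeIdealOf ⟨ξ, hx⟩).asIdeal :=
    U.2.isLocalization_stalk ⟨ξ, hx⟩
  haveI := IsLocallyNoetherian.component_noetherian U
  haveI : IsNoetherianRing (X.presheaf.stalk ξ) :=
    IsLocalization.isNoetherianRing (U.2.primeIdealOf ⟨ξ, hx⟩).asIdeal.primeCompl _ ‹_›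
  refine isDVR_of_maximalIdeal_eq_span (germ_mem_nonZeroDivisors U.2 hx hf0) ?_
  rw [← IsLocalization.AtPrime.map_eq_maximalIdeal (U.2.primeIdealOf ⟨ξ, hx⟩).asIdeal
    (X.presheaf.stalk ξ), hmin, hf, Ideal.map_span, Set.image_singleton]
  rfl

/-- The complement of an effective Cartier divisor, on an open where it is `V(f)`. -/
theorem compl_inf_eq_basicOpen (D : X.IdealSheafData) (U : X.affineOpens) {f : Γ(X, U.1)}
    (hf : D.ideal U = Ideal.span {f}) : D.support.compl ⊓ U.1 = X.basicOpen f := by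
  refine TopologicalSpace.Opens.ext (Set.ext fun x => ⟨fun h => ?_, fun h => ?_⟩)
  · by_contra hb
    refine h.1 ((Scheme.IdealSheafData.mem_support_iff_of_mem h.2).2 ?_)
    rw [Scheme.mem_zeroLocus_iff, hf]
    intro g hg
    obtain ⟨c, rfl⟩ := Ideal.mem_span_singleton'.1 hg
    rw [Scheme.basicOpen_mul]
    exact fun h' => hb h'.2
  · have hxU : x ∈ U.1 := X.basicOpen_le f h
    refine ⟨fun hD => ?_, hxU⟩
    have := (Scheme.IdealSheafData.mem_support_iff_of_mem hxU).1 hD
    rw [Scheme.mem_zeroLocus_iff, hf] at this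
    exact this f (Ideal.mem_span_singleton_self f) h

theorem compl_affine_dense (D : X.IdealSheafData) (hD : BlowUp.IsEffCartierIdeal D) :
    IsAffineHom (Scheme.Opens.ι (X := X) D.support.compl) ∧
      IsSchemeTheoreticallyDominant (Scheme.Opens.ι (X := X) D.support.compl) := by
  choose U hxU f hf0 hf using hD
  have hcov : ⨆ x, (U x).1 = ⊤ :=
    top_unique fun x _ => Opens.mem_iSup.2 ⟨x, hxU x⟩
  set V : X.Opens := D.support.compl with hV
  have himg : ∀ x, V.ι ''ᵁ V.ι ⁻¹ᵁ (U x).1 = X.basicOpen (f x) := fun x => by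
    rw [Scheme.Hom.image_preimage_eq_opensRange_inf, Scheme.Opens.opensRange_ι]
    exact compl_inf_eq_basicOpen D (U x) (hf x)
  haveI : IsAffineHom V.ι := by
    refine isAffineHom_of_forall_exists_isAffineOpen _ fun x => ⟨(U x).1, hxU x, (U x).2, ?_⟩
    rw [← V.ι.isAffineOpen_iff_of_isOpenImmersion, himg]
    exact (U x).2.basicOpen _
  refine ⟨inferInstance, ⟨Scheme.IdealSheafData.ext_of_iSup_eq_top U hcov fun x => ?_⟩⟩
  rw [Scheme.Hom.ker_apply, Scheme.IdealSheafData.ideal_bot]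
  refine (RingHom.injective_iff_ker_eq_bot _).1 fun a b hab => ?_
  rw [Scheme.Opens.ι_app] at hab
  haveI := (U x).2.isLocalization_basicOpen (f x)
  refine IsLocalization.injective Γ(X, X.basicOpen (f x)) (M := Submonoid.powers (f x))
    (Submonoid.powers_le.2 (hf0 x)) ?_
  have e3 : ∀ {W V' T : X.Opens} (i : Opposite.op W ⟶ Opposite.op V')
      (j : Opposite.op V' ⟶ Opposite.op T) (k : Opposite.op W ⟶ Opposite.op T) (r : Γ(X, W)),
      (X.presheaf.map j).hom ((X.presheaf.map i).hom r) = (X.presheaf.map k).hom r :=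
    fun i j k r => by
      rw [← CommRingCat.comp_apply, ← Functor.map_comp, Subsingleton.elim (i ≫ j) k]
  have h2 := congrArg (X.presheaf.map (homOfLE (himg x).ge).op).hom hab
  exact (e3 _ _ _ a).symm.trans (h2.trans (e3 _ _ _ b))

/-- A stalkwise criterion for effective Cartier divisors. -/
theorem isEffCartierIdeal_of_stalk [IsLocallyNoetherian X] (D : X.IdealSheafData)
    (h : ∀ x ∈ D.support, ∀ (U : X.affineOpens) (hx : x ∈ (U : X.Opens)),
      ∃ g : X.presheaf.stalk x, g ∈ nonZeroDivisors (X.presheaf.stalk x) ∧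
        (D.ideal U).map (X.presheaf.germ U x hx).hom = Ideal.span {g}) :
    BlowUp.IsEffCartierIdeal D := by
  classical
  intro x
  by_cases hxD : x ∈ D.support
  swap
  · obtain ⟨U, hU, hxU, hle⟩ :=
      exists_isAffineOpen_mem_and_subset (U := D.support.compl) (x := x) hxD
    refine ⟨⟨U, hU⟩, hxU, 1, one_mem _, ?_⟩
    rw [Ideal.span_singleton_one]
    by_contra hne
    obtain ⟨m, hm, hle'⟩ := Ideal.exists_le_maximal _ hne
    obtain ⟨y, hy, rfl⟩ := AssPts.exists_point hU m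
    exact hle hy ((mem_support_iff_le_prime D ⟨U, hU⟩ hy).2 hle')
  obtain ⟨U, hU, hxU, -⟩ := exists_isAffineOpen_mem_and_subset (U := ⊤) (x := x) trivial
  obtain ⟨g, hg0, hg⟩ := h x hxD ⟨U, hU⟩ hxU
  haveI : IsNoetherianRing Γ(X, U) := IsLocallyNoetherian.component_noetherian ⟨U, hU⟩
  letI := (X.presheaf.germ U x hxU).hom.toAlgebra
  set p := (hU.primeIdealOf ⟨x, hxU⟩).asIdeal with hp
  haveI : IsLocalization.AtPrime (X.presheaf.stalk x) p := hU.isLocalization_stalk ⟨x, hxU⟩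
  set I := D.ideal ⟨U, hU⟩ with hI
  change I.map (algebraMap Γ(X, U) _) = _ at hg
  -- a local generator
  obtain ⟨a, haI, hag⟩ : ∃ a ∈ I,
      I.map (algebraMap Γ(X, U) (X.presheaf.stalk x)) = Ideal.span {algebraMap _ _ a} ∧
        algebraMap Γ(X, U) (X.presheaf.stalk x) a ∈ nonZeroDivisors _ := by
    obtain ⟨⟨⟨a, ha⟩, t⟩, hat⟩ := (IsLocalization.mem_map_algebraMap_iff p.primeCompl
      (X.presheaf.stalk x)).1 (hg ▸ Ideal.mem_span_singleton_self g)
    refine ⟨a, ha, ?_⟩
    have hu := IsLocalization.map_units (X.presheaf.stalk x) t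
    rw [← hat]
    exact ⟨hg.trans (Ideal.span_singleton_mul_right_unit hu g).symm,
      mul_mem hg0 hu.mem_nonZeroDivisors⟩
  obtain ⟨hspan, hnzd⟩ := hag
  have h1 : ∀ b ∈ I, ∃ t ∉ p, t * b ∈ Ideal.span {a} := fun b hb => by
    have hb' : algebraMap Γ(X, U) (X.presheaf.stalk x) b ∈
        (Ideal.span {a}).map (algebraMap Γ(X, U) (X.presheaf.stalk x)) := by
      rw [Ideal.map_span, Set.image_singleton, ← hspan]
      exact Ideal.mem_map_of_mem _ hb
    obtain ⟨⟨⟨c, hc⟩, t⟩, hct⟩ :=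
      (IsLocalization.mem_map_algebraMap_iff p.primeCompl (X.presheaf.stalk x)).1 hb'
    rw [← map_mul, IsLocalization.eq_iff_exists p.primeCompl] at hct
    obtain ⟨s, hs⟩ := hct
    refine ⟨s * t, fun hst => ((inferInstance : p.IsPrime).mul_mem_iff_mem_or_mem.1 hst).elim s.2 t.2, ?_⟩
    have he : (s : Γ(X, U)) * t * b = s * c := by rw [← hs]; ring
    rw [he]
    exact Ideal.mul_mem_left _ _ hc
  have h2 : ∀ z, z * a = 0 → ∃ t ∉ p, t * z = 0 := fun z hz => by
    have : algebraMap Γ(X, U) (X.presheaf.stalk x) z = 0 :=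
      (mem_nonZeroDivisors_iff_right.1 hnzd) _ (by rw [← map_mul, hz, map_zero])
    obtain ⟨t, ht⟩ := (IsLocalization.map_eq_zero_iff p.primeCompl _ _).1 this
    exact ⟨t, t.2, ht⟩
  choose t1 ht1 ht1' using h1
  choose t2 ht2 ht2' using h2
  obtain ⟨S, hS⟩ := (inferInstance : IsNoetherianRing Γ(X, U)).noetherian I
  obtain ⟨T, hT⟩ := (inferInstance : IsNoetherianRing Γ(X, U)).noetherian
    (LinearMap.ker (LinearMap.mulRight Γ(X, U) a))
  have hSmem : ∀ b : S, (b : Γ(X, U)) ∈ I := fun b => hS ▸ Submodule.subset_span b.2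
  have hTmem : ∀ z : T, (z : Γ(X, U)) * a = 0 := fun z => by
    have : (z : Γ(X, U)) ∈ LinearMap.ker (LinearMap.mulRight Γ(X, U) a) :=
      hT ▸ Submodule.subset_span z.2
    simpa using this
  set k : Γ(X, U) := (∏ b : S, t1 b (hSmem b)) * ∏ z : T, t2 z (hTmem z) with hk
  have hkp : k ∉ p := by
    rw [hk, (inferInstance : p.IsPrime).mul_mem_iff_mem_or_mem, not_or,
      Ideal.IsPrime.prod_mem_iff (hp := inferInstance),
      Ideal.IsPrime.prod_mem_iff (hp := inferInstance)]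
    exact ⟨fun ⟨b, _, hb⟩ => ht1 _ _ hb, fun ⟨z, _, hz⟩ => ht2 _ _ hz⟩
  have hkI : ∀ b ∈ I, k * b ∈ Ideal.span {a} := fun b hb => by
    suffices I ≤ (Ideal.span {a}).colon {k} from by
      have := Submodule.mem_colon_singleton.1 (this hb)
      rwa [smul_eq_mul, mul_comm] at this
    rw [← hS, Submodule.span_le]
    intro b hb
    rw [SetLike.mem_coe, Submodule.mem_colon_singleton, smul_eq_mul, mul_comm, hk,
      ← Finset.mul_prod_erase Finset.univ _ (Finset.mem_univ (⟨b, hb⟩ : S))]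
    have := Ideal.mul_mem_left _ ((∏ b' ∈ Finset.univ.erase (⟨b, hb⟩ : S), t1 b' (hSmem b')) *
      ∏ z : T, t2 z (hTmem z)) (ht1' b (hSmem ⟨b, hb⟩))
    convert this using 1
    ring
  have hka : ∀ z, z * a = 0 → k * z = 0 := fun z hz => by
    have hz' : z ∈ LinearMap.ker (LinearMap.mulRight Γ(X, U) a) := by simpa using hz
    suffices LinearMap.ker (LinearMap.mulRight Γ(X, U) a) ≤
        LinearMap.ker (LinearMap.mulRight Γ(X, U) k) by simpa [mul_comm] using this hz'
    rw [← hT, Submodule.span_le]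
    intro w hw
    rw [SetLike.mem_coe, LinearMap.mem_ker, LinearMap.mulRight_apply, hk,
      ← Finset.mul_prod_erase Finset.univ (fun z : T => t2 z (hTmem z))
        (Finset.mem_univ (⟨w, hw⟩ : T))]
    calc _ = (∏ b : S, t1 b (hSmem b)) *
          (∏ z ∈ Finset.univ.erase (⟨w, hw⟩ : T), t2 z (hTmem z)) *
          (t2 w (hTmem ⟨w, hw⟩) * w) := by ring
      _ = 0 := by rw [ht2' w (hTmem ⟨w, hw⟩), mul_zero]
  haveI := hU.isLocalization_basicOpen k
  have hkx : x ∈ X.basicOpen k := (mem_basicOpen_iff_notMem_prime hU x hxU k).2 hkp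
  have hku : IsUnit (algebraMap Γ(X, U) Γ(X, X.basicOpen k) k) :=
    IsLocalization.map_units (M := Submonoid.powers k) _ ⟨k, Submonoid.mem_powers k⟩
  refine ⟨X.affineBasicOpen (U := ⟨U, hU⟩) k, hkx, algebraMap Γ(X, U) Γ(X, X.basicOpen k) a,
    ?_, ?_⟩
  · change _ ∈ nonZeroDivisors Γ(X, X.basicOpen k)
    rw [mem_nonZeroDivisors_iff_right]
    intro z hz
    obtain ⟨r, s, rfl⟩ := IsLocalization.exists_mk'_eq (Submonoid.powers k) z
    rw [mul_comm, IsLocalization.mul_mk'_eq_mk'_of_mul, IsLocalization.mk'_eq_zero_iff] at hz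
    obtain ⟨t, ht⟩ := hz
    rw [IsLocalization.mk'_eq_zero_iff]
    refine ⟨⟨k * t, mul_mem (Submonoid.mem_powers k) t.2⟩, ?_⟩
    change k * t * r = 0
    rw [mul_assoc]
    exact hka _ (by rw [← ht]; ring)
  · rw [← D.map_ideal_basicOpen]
    change I.map (algebraMap Γ(X, U) Γ(X, X.basicOpen k)) = _
    refine le_antisymm (Ideal.map_le_iff_le_comap.2 fun b hb => ?_)
      ((Ideal.span_singleton_le_iff_mem _).2 (Ideal.mem_map_of_mem _ haI))
    obtain ⟨c, hc⟩ := Ideal.mem_span_singleton'.1 (hkI b hb)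
    rw [Ideal.mem_comap]
    refine Ideal.mem_span_singleton'.2 ?_
    obtain ⟨v, hv⟩ := hku
    refine ⟨↑v⁻¹ * algebraMap _ _ c, ?_⟩
    have key : ∀ {R : Type u} [CommRing R] (w : Rˣ) (c' a' b' : R),
        c' * a' = w * b' → ↑w⁻¹ * c' * a' = b' := fun w c' a' b' h' => by
      rw [mul_assoc, h', Units.inv_mul_cancel_left]
    refine key v _ _ _ ?_
    rw [hv, ← map_mul, ← map_mul, hc]

end Groth.Agent.DivPts
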