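import Groth.Prelude.Def_CurvBase
import Groth.Prelude.Def_BlowUp2
import Groth.Agent.AssPts.Basic
import Mathlib.RingTheory.Ideal.KrullsHeightTheorem
import Mathlib.RingTheory.Ideal.Height
import Mathlib.RingTheory.DiscreteValuationRing.TFAE
import Mathlib.AlgebraicGeometry.IdealSheaf.Subscheme

/-!
# Points of locally principal closed subschemes
-/

noncomputable section

universe u

open CategoryTheory AlgebraicGeometry Opposite TopologicalSpace Groth.Agent.QCohBase

namespace Groth.Agent.DivPts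

variable {X : Scheme.{u}}

/-- Membership in the support of an ideal sheaf, read on an affine open. -/
theorem mem_support_iff_le_prime (D : X.IdealSheafData) (U : X.affineOpens) {x : X}
    (hx : x ∈ (U : X.Opens)) :
    x ∈ D.support ↔ D.ideal U ≤ (U.2.primeIdealOf ⟨x, hx⟩).asIdeal := by
  rw [Scheme.IdealSheafData.mem_support_iff_of_mem hx, Scheme.mem_zeroLocus_iff]
  refine forall₂_congr fun g _ => ?_
  rw [mem_basicOpen_iff_notMem_prime U.2 x hx g, not_not]

/-- A point of the support maximal under generisation is a minimal prime over the ideal. -/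
theorem mem_minimalPrimes_of_maximal (D : X.IdealSheafData) (U : X.affineOpens) {x : X}
    (hx : x ∈ (U : X.Opens)) (hxD : x ∈ D.support)
    (hgen : ∀ y ∈ (D.support : Set X), y ⤳ x → y = x) :
    (U.2.primeIdealOf ⟨x, hx⟩).asIdeal ∈ (D.ideal U).minimalPrimes := by
  refine ⟨⟨(U.2.primeIdealOf ⟨x, hx⟩).isPrime, (mem_support_iff_le_prime D U hx).1 hxD⟩,
    fun q hq hle => ?_⟩
  haveI := hq.1
  obtain ⟨y, hy, hyq⟩ := AssPts.exists_point U.2 q
  have hyD : y ∈ D.support := (mem_support_iff_le_prime D U hy).2 (hyq ▸ hq.2)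
  have hspec : y ⤳ x := (AssPts.specializes_iff U.2 x hx hy).2 (hyq ▸ hle)
  obtain rfl := hgen y hyD hspec
  exact hyq.le

theorem ringKrullDim_stalk_eq_height (U : X.affineOpens) {x : X} (hx : x ∈ (U : X.Opens)) :
    ringKrullDim (X.presheaf.stalk x) = (U.2.primeIdealOf ⟨x, hx⟩).asIdeal.height := by
  letI := (X.presheaf.germ U.1 x hx).hom.toAlgebra
  haveI : IsLocalization.AtPrime (X.presheaf.stalk x) (U.2.primeIdealOf ⟨x, hx⟩).asIdeal :=
    U.2.isLocalization_stalk ⟨x, hx⟩
  exact IsLocalization.AtPrime.ringKrullDim_eq_height _ _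

/-- Krull's principal ideal theorem for locally principal closed subschemes. -/
theorem ringKrullDim_stalk_le_one [IsLocallyNoetherian X] (D : X.IdealSheafData)
    (U : X.affineOpens) {f : Γ(X, U.1)} (hf : D.ideal U = Ideal.span {f}) {x : X}
    (hx : x ∈ (U : X.Opens)) (hxD : x ∈ D.support)
    (hgen : ∀ y ∈ (D.support : Set X), y ⤳ x → y = x) :
    ringKrullDim (X.presheaf.stalk x) ≤ 1 := by
  haveI := IsLocallyNoetherian.component_noetherian U
  rw [ringKrullDim_stalk_eq_height U hx]
  haveI : (D.ideal U).IsPrincipal := ⟨⟨f, hf⟩⟩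
  exact_mod_cast Ideal.height_le_one_of_isPrincipal_of_mem_minimalPrimes _ _
    (mem_minimalPrimes_of_maximal D U hx hxD hgen)

/-- At a generic point of an effective Cartier divisor the local ring has dimension one. -/
theorem ringKrullDim_stalk_eq_one [IsLocallyNoetherian X] (D : X.IdealSheafData)
    (hD : BlowUp.IsEffCartierIdeal D) {x : X} (hxD : x ∈ D.support)
    (hgen : ∀ y ∈ (D.support : Set X), y ⤳ x → y = x) :
    ringKrullDim (X.presheaf.stalk x) = 1 := by
  obtain ⟨U, hx, f, hf0, hf⟩ := hD x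
  refine le_antisymm (ringKrullDim_stalk_le_one D U hf hx hxD hgen) ?_
  rw [ringKrullDim_stalk_eq_height U hx]
  have hfp : f ∈ (U.2.primeIdealOf ⟨x, hx⟩).asIdeal :=
    (mem_support_iff_le_prime D U hx).1 hxD (hf ▸ Ideal.mem_span_singleton_self f)
  have hne : (U.2.primeIdealOf ⟨x, hx⟩).asIdeal.height ≠ 0 := fun h =>
    Ideal.disjoint_nonZeroDivisors_of_mem_minimalPrimes (Ideal.height_eq_zero_iff.1 h)
      |>.ne_of_mem hfp hf0 rfl
  exact_mod_cast Order.one_le_iff_ne_zero.2 hne

/-- A Noetherian local ring of positive dimension with principal maximal ideal generated by a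
nonzerodivisor is a discrete valuation ring. -/
theorem isDVR_of_maximalIdeal_eq_span {R : Type u} [CommRing R] [IsLocalRing R]
    [IsNoetherianRing R] {f : R} (hf0 : f ∈ nonZeroDivisors R)
    (hf : IsLocalRing.maximalIdeal R = Ideal.span {f}) :
    ∃ _ : IsDomain R, IsDiscreteValuationRing R := by
  have hfm : f ∈ IsLocalRing.maximalIdeal R := hf ▸ Ideal.mem_span_singleton_self f
  have key : ∀ a : R, a ≠ 0 → ∃ (n : ℕ) (u : R), IsUnit u ∧ a = u * f ^ n := by
    intro a ha
    have hex : ∃ n, a ∉ IsLocalRing.maximalIdeal R ^ n := by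
      by_contra! h
      refine ha ?_
      have hmem : a ∈ ⨅ n : ℕ, IsLocalRing.maximalIdeal R ^ n := Ideal.mem_iInf.2 h
      rwa [Ideal.iInf_pow_eq_bot_of_isLocalRing _ (IsLocalRing.maximalIdeal.isMaximal R).ne_top]
        at hmem
    classical
    obtain ⟨n, hn⟩ : ∃ n, Nat.find hex = n + 1 :=
      ⟨Nat.find hex - 1, (Nat.succ_pred_eq_of_pos (Nat.pos_of_ne_zero fun h0 => by
        have := Nat.find_spec hex
        simp [h0] at this)).symm⟩
    have hmem : a ∈ IsLocalRing.maximalIdeal R ^ n := not_not.1 (Nat.find_min hex (by omega))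
    rw [hf, Ideal.span_singleton_pow, Ideal.mem_span_singleton'] at hmem
    obtain ⟨u, rfl⟩ := hmem
    refine ⟨n, u, IsLocalRing.notMem_maximalIdeal.1 fun hu => Nat.find_spec hex ?_, rfl⟩
    rw [hn, pow_succ', hf, Ideal.span_singleton_pow, ← hf]
    exact Ideal.mul_mem_mul hu (Ideal.mem_span_singleton_self _)
  haveI hdom : IsDomain R := by
    haveI : NoZeroDivisors R := ⟨fun {a b} hab => by
      by_contra! h
      obtain ⟨n, u, hu, rfl⟩ := key a h.1
      obtain ⟨m, v, hv, rfl⟩ := key b h.2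
      have h' : (u * v) * f ^ (n + m) = 0 := by rw [← hab]; ring
      exact (hu.mul hv).ne_zero ((pow_mem hf0 (n + m)).2 _ h')⟩
    exact NoZeroDivisors.to_isDomain R
  refine ⟨hdom, ?_⟩
  have hne : ¬ IsField R := fun h => by
    have hmb := (IsLocalRing.isField_iff_maximalIdeal_eq.1 h)
    rw [hmb] at hfm
    exact nonZeroDivisors.ne_zero hf0 hfm
  exact ((IsDiscreteValuationRing.TFAE R hne).out 0 4 rfl rfl).2 ⟨f, hf⟩

end Groth.Agent.DivPts
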