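import Groth.Agent.AssPts.Basic
import Groth.Agent.QCohBase.Finite
import Mathlib.RingTheory.Ideal.AssociatedPrime.Finiteness
import Mathlib.AlgebraicGeometry.Noetherian

/-!
# Maximal points of the support, finiteness of associated points
-/

noncomputable section

universe u

open CategoryTheory AlgebraicGeometry Opposite TopologicalSpace Groth.Agent.QCohBase

namespace Groth.Agent.DivPts

variable {X : Scheme.{u}}

theorem isAssPoint_of_maximal (F : X.Modules) [F.IsQuasicoherent] (x : X)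
    (hx : x ∈ CohB1.support F) (hmax : ∀ y ∈ CohB1.support F, y ⤳ x → y = x) :
    Curv2.IsAssPoint F x := by
  obtain ⟨U, hU, hxU, -⟩ := exists_isAffineOpen_mem_and_subset (U := ⊤) (x := x) trivial
  rw [AssPts.isAssPoint_iff_isWeakAssPoint, AssPts.isWeakAssPoint_iff F hU x hxU]
  change ¬ Subsingleton _ at hx
  obtain ⟨z, hz⟩ : ∃ z : F.presheaf.stalk x, z ≠ 0 := by
    by_contra! h
    exact hx ⟨fun a b => (h a).trans (h b).symm⟩
  obtain ⟨g, s, hg, hs⟩ := AssPts.exists_germ_smul_eq F hU x hxU z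
  have hgs : F.presheaf.germ U x hxU s ≠ 0 := by
    rw [← hs, Ne, ((AssPts.notMem_prime_iff hU x hxU g).1 hg).smul_eq_zero]
    exact hz
  set p := (hU.primeIdealOf ⟨x, hxU⟩).asIdeal with hp
  have hle : (Submodule.span Γ(X, U) {s}).annihilator ≤ p := by
    intro r hr
    by_contra hrp
    exact hgs ((AssPts.germ_eq_zero_iff F hU x hxU s).2
      ⟨r, hrp, (Submodule.mem_annihilator_span_singleton s r).1 hr⟩)
  obtain ⟨q, hq, hqp⟩ := Ideal.exists_minimalPrimes_le hle
  haveI := hq.1.1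
  obtain ⟨y, hy, hyq⟩ := AssPts.exists_point hU q
  have hyS : y ∈ CohB1.support F := by
    intro hsub
    obtain ⟨t, ht, hts⟩ := (AssPts.germ_eq_zero_iff F hU y hy s).1 (hsub.elim _ _)
    exact ht (hyq ▸ hq.1.2 ((Submodule.mem_annihilator_span_singleton s t).2 hts))
  obtain rfl := hmax y hyS ((AssPts.specializes_iff hU x hxU hy).2 (hyq ▸ hqp))
  exact ⟨s, hp ▸ hyq ▸ hq⟩

theorem finite_assPoints [IsLocallyNoetherian X] (F : X.Modules) (hF : Coh.IsCoh F)
    (V : X.Opens) (hV : IsCompact (V : Set X)) :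
    {x : X | x ∈ V ∧ Curv2.IsAssPoint F x}.Finite := by
  haveI : F.IsQuasicoherent := hF.1
  have key : ∀ U : X.affineOpens, {x : X | x ∈ U.1 ∧ Curv2.IsAssPoint F x}.Finite := by
    intro U
    haveI := IsLocallyNoetherian.component_noetherian U
    haveI : Module.Finite Γ(X, U.1) Γ(F, U.1) := finite_sections F hF.2 U.2
    have hfin : (FlatCA.ass Γ(X, U.1) Γ(F, U.1)).Finite := by
      refine (associatedPrimes.finite Γ(X, U.1) Γ(F, U.1)).subset fun q hq => ?_
      obtain ⟨hqp, m, rfl⟩ := hq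
      refine ⟨hqp, m, ?_⟩
      rw [Submodule.annihilator_span_singleton] at hqp ⊢
      have key2 : (⊥ : Submodule Γ(X, U.1) Γ(F, U.1)).colon {m} =
          LinearMap.ker (LinearMap.toSpanSingleton Γ(X, U.1) Γ(F, U.1) m) := by
        ext r; simp [Submodule.mem_colon_singleton]
      rw [key2, hqp.radical]
    let φ : {x : X // x ∈ U.1 ∧ Curv2.IsAssPoint F x} → Ideal Γ(X, U.1) :=
      fun x => (U.2.primeIdealOf ⟨x.1, x.2.1⟩).asIdeal
    have hinj : Function.Injective φ := fun a b h => by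
      have h' := PrimeSpectrum.ext h
      have := congrArg U.2.fromSpec.base h'
      rw [U.2.fromSpec_primeIdealOf, U.2.fromSpec_primeIdealOf] at this
      exact Subtype.ext this
    haveI := hfin.to_subtype
    haveI : Finite {x : X // x ∈ U.1 ∧ Curv2.IsAssPoint F x} :=
      Finite.of_injective (β := FlatCA.ass Γ(X, U.1) Γ(F, U.1))
        (fun x => ⟨φ x, (AssPts.mem_ass_iff F U.2 x.1 x.2.1).1 x.2.2⟩)
        (fun a b h => hinj (congrArg Subtype.val h))
    exact Set.finite_coe_iff.1 (by assumption)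
  obtain ⟨s, hs⟩ := hV.elim_finite_subcover (fun U : X.affineOpens => (U.1 : Set X))
    (fun U => U.1.2) fun x _ => by
      obtain ⟨U, hU, hxU, -⟩ := exists_isAffineOpen_mem_and_subset (U := ⊤) (x := x) trivial
      exact Set.mem_iUnion.2 ⟨⟨U, hU⟩, hxU⟩
  refine (s.finite_toSet.biUnion fun U _ => key U).subset fun x hx => ?_
  obtain ⟨U, hU, hxU⟩ := Set.mem_iUnion₂.1 (hs hx.1)
  exact Set.mem_iUnion₂.2 ⟨U, hU, hxU, hx.2⟩

end Groth.Agent.DivPts
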