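import Groth.Agent.DivPts.NormalIso
import Mathlib.AlgebraicGeometry.IdealSheaf.Subscheme
import Mathlib.AlgebraicGeometry.Morphisms.Separated

/-!
# Rational sections of integral morphisms over normal schemes extend
-/

noncomputable section

universe u

open CategoryTheory AlgebraicGeometry Opposite TopologicalSpace

namespace Groth.Agent.DivPts

variable {X X' : Scheme.{u}}

theorem exists_section_extending [IsIntegral X] (hX : Pi1.IsNormalScheme X)
    (g : X' ⟶ X) [IsIntegralHom g] (U : X.Opens) (hU : Dense (U : Set X))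
    (s : (U : Scheme.{u}) ⟶ X') (hs : s ≫ g = U.ι) :
    ∃ s' : X ⟶ X', s' ≫ g = 𝟙 X ∧ U.ι ≫ s' = s := by
  have hηU : genericPoint X ∈ U :=
    (genericPoint_spec X).mem_open_set_iff U.2 |>.2 (by simpa using hU.nonempty)
  have hrange : Set.range (X.fromSpecStalk (genericPoint X)) ⊆ Set.range U.ι := by
    rw [X.range_fromSpecStalk, Scheme.Opens.range_ι]
    exact fun y hy => hy.mem_open U.2 hηU
  let j : Spec (X.presheaf.stalk (genericPoint X)) ⟶ (U : Scheme.{u}) :=
    IsOpenImmersion.lift U.ι (X.fromSpecStalk (genericPoint X)) hrange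
  let t : Spec (X.presheaf.stalk (genericPoint X)) ⟶ X' := j ≫ s
  have htg : t ≫ g = X.fromSpecStalk (genericPoint X) := by
    simp [t, j, hs]
  have hpts : Subsingleton (Spec (X.presheaf.stalk (genericPoint X))) :=
    inferInstanceAs (Subsingleton (PrimeSpectrum X.functionField))
  haveI : QuasiCompact t := ⟨fun W _ _ => Set.Subsingleton.finite
    (fun a _ b _ => Subsingleton.elim a b) |>.isCompact⟩
  let p : t.image ⟶ X := t.imageι ≫ g
  haveI : IsIntegralHom p := inferInstance
  haveI : IsIso p := by
    refine isIso_of_sections hX p fun V hV _ => ?_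
    have hηV : genericPoint X ∈ V := (genericPoint_spec X).mem_open_set_iff V.2 |>.2 (by
      simpa using (Set.nonempty_coe_sort.1 (inferInstance : Nonempty V)))
    let W : X'.affineOpens := ⟨g ⁻¹ᵁ V, hV.preimage g⟩
    have htop : t ⁻¹ᵁ W.1 = ⊤ := by
      refine top_unique fun x _ => ?_
      show g (t x) ∈ V
      rw [← Scheme.Hom.comp_apply, htg]
      have : X.fromSpecStalk (genericPoint X) x = genericPoint X := by
        rw [Subsingleton.elim x (IsLocalRing.closedPoint _), Scheme.fromSpecStalk_closedPoint]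
      rw [this]
      exact hηV
    let iso : Γ(Spec (X.presheaf.stalk (genericPoint X)), t.toImage ⁻¹ᵁ (t.imageι ⁻¹ᵁ W.1)) ≅
        X.functionField :=
      (Spec (X.presheaf.stalk (genericPoint X))).presheaf.mapIso
        (eqToIso (show ⊤ = t.toImage ⁻¹ᵁ (t.imageι ⁻¹ᵁ W.1) by
          rw [← Scheme.Hom.comp_preimage, t.toImage_imageι, htop])).op ≪≫
        Scheme.ΓSpecIso _
    refine ⟨(t.toImage.app (t.imageι ⁻¹ᵁ W.1) ≫ iso.hom).hom, ?_, ?_⟩
    · exact iso.commRingCatIsoToRingEquiv.injective.comp (t.toImage_app_injective W)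
    · change (p.app V ≫ t.toImage.app (p ⁻¹ᵁ V) ≫ iso.hom).hom = _
      rw [← Category.assoc, ← Scheme.Hom.comp_app]
      have e : t.toImage ≫ p = X.fromSpecStalk (genericPoint X) := by
        rw [Scheme.Hom.toImage_imageι_assoc]; exact htg
      have hh := Scheme.Hom.congr_app e V
      rw [hh, Scheme.fromSpecStalk_app hηV]
      congr 1
      simp only [Category.assoc]
      have key : ∀ {A B : (Spec (X.presheaf.stalk (genericPoint X))).Opens} (i : op ⊤ ⟶ op A)
          (k : op A ⟶ op B) (l : op B ⟶ op ⊤),
          (Spec (X.presheaf.stalk (genericPoint X))).presheaf.map i ≫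
            (Spec (X.presheaf.stalk (genericPoint X))).presheaf.map k ≫
            (Spec (X.presheaf.stalk (genericPoint X))).presheaf.map l = 𝟙 _ := fun i k l => by
        rw [← Functor.map_comp, ← Functor.map_comp, Subsingleton.elim (i ≫ k ≫ l) (𝟙 _),
          CategoryTheory.Functor.map_id]
      simp only [iso, Iso.trans_hom, Functor.mapIso_hom, Iso.op_hom]
      have key' : ∀ {A B : (Spec (X.presheaf.stalk (genericPoint X))).Opens} (i : op ⊤ ⟶ op A)
          (k : op A ⟶ op B) (l : op B ⟶ op ⊤) (a : Γ(X, V) ⟶ X.presheaf.stalk (genericPoint X)),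
          (a ≫ (Scheme.ΓSpecIso (X.presheaf.stalk (genericPoint X))).inv ≫
            (Spec (X.presheaf.stalk (genericPoint X))).presheaf.map i ≫
            (Spec (X.presheaf.stalk (genericPoint X))).presheaf.map k) ≫
            (Spec (X.presheaf.stalk (genericPoint X))).presheaf.map l ≫
            (Scheme.ΓSpecIso (X.presheaf.stalk (genericPoint X))).hom = a := fun i k l a => by
        simp only [Category.assoc]
        rw [reassoc_of% (key i k l)]
        simp
      exact key' _ _ _ _
  refine ⟨inv p ≫ t.imageι, by simp [p], ?_⟩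
  haveI : IsDominant j := ⟨fun x => by
    have hspec : (⟨genericPoint X, hηU⟩ : (U : Scheme.{u})) ⤳ x := by
      refine (U.ι.isOpenEmbedding.isInducing.specializes_iff (x := (⟨genericPoint X, hηU⟩ : (U : Scheme.{u}))) (y := x)).1 ?_
      exact (genericPoint_spec X).specializes trivial
    have hj : j (IsLocalRing.closedPoint _) = ⟨genericPoint X, hηU⟩ := by
      apply U.ι.isOpenEmbedding.injective
      rw [← Scheme.Hom.comp_apply, IsOpenImmersion.lift_fac, Scheme.fromSpecStalk_closedPoint]
      rfl
    exact closure_mono (by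
      intro y hy
      rw [Set.mem_singleton_iff.1 hy]
      exact ⟨_, hj⟩) hspec.mem_closure⟩
  refine ext_of_isDominant_of_isSeparated g (by simp [p, hs]) j ?_
  have e : t.toImage ≫ p = X.fromSpecStalk (genericPoint X) := by
    rw [Scheme.Hom.toImage_imageι_assoc]; exact htg
  have hj : j ≫ U.ι = X.fromSpecStalk (genericPoint X) := IsOpenImmersion.lift_fac _ _ _
  rw [← Category.assoc, hj, ← e]
  simp [t]

end Groth.Agent.DivPts
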