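import Groth.Prelude.Def_Pi1
import Groth.Agent.AssPts.Basic
import Mathlib.AlgebraicGeometry.FunctionField
import Mathlib.AlgebraicGeometry.Morphisms.Integral
import Mathlib.AlgebraicGeometry.Morphisms.IsIso
import Mathlib.AlgebraicGeometry.Morphisms.UniversallyInjective
import Mathlib.RingTheory.IntegralClosure.IntegrallyClosed
import Mathlib.RingTheory.Ideal.GoingUp

/-!
# Birational integral morphisms onto normal schemes are isomorphisms
-/

noncomputable section

universe u

open CategoryTheory AlgebraicGeometry Opposite TopologicalSpace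

namespace Groth.Agent.DivPts

variable {X X' : Scheme.{u}}

theorem isIntegrallyClosed_sections [IsIntegral X] (hX : Pi1.IsNormalScheme X) {U : X.Opens}
    (hU : IsAffineOpen U) [Nonempty U] : IsIntegrallyClosed Γ(X, U) := by
  refine IsIntegrallyClosed.of_localization_maximal fun p _ hp => ?_
  obtain ⟨y, hy, hyp⟩ := AssPts.exists_point hU p
  letI := (X.presheaf.germ U y hy).hom.toAlgebra
  haveI : IsLocalization.AtPrime (X.presheaf.stalk y) (hU.primeIdealOf ⟨y, hy⟩).asIdeal :=
    hU.isLocalization_stalk ⟨y, hy⟩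
  subst hyp
  haveI := (hX y).2
  exact IsIntegrallyClosed.of_equiv (IsLocalization.algEquiv
    (hU.primeIdealOf ⟨y, hy⟩).asIdeal.primeCompl (X.presheaf.stalk y) _).toRingEquiv

/-- The algebraic core. -/
theorem bijective_of_integral_into_fractions {A B K : Type u} [CommRing A] [IsDomain A]
    [IsIntegrallyClosed A] [CommRing B] [Field K] [Algebra A K] [IsFractionRing A K]
    (φ : A →+* B) (hφ : φ.IsIntegral) (ψ : B →+* K) (hψ : Function.Injective ψ)
    (hcomp : ψ.comp φ = algebraMap A K) : Function.Bijective φ := by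
  refine ⟨fun a b h => IsFractionRing.injective A K ?_, fun b => ?_⟩
  · rw [← hcomp, RingHom.comp_apply, RingHom.comp_apply, h]
  · have hint : IsIntegral A (ψ b) := by
      obtain ⟨p, hp, hpb⟩ := hφ b
      refine ⟨p, hp, ?_⟩
      rw [← hcomp, ← Polynomial.hom_eval₂, hpb, map_zero]
    obtain ⟨a, ha⟩ := IsIntegrallyClosed.algebraMap_eq_of_integral hint
    exact ⟨a, hψ (by rw [← ha, ← hcomp]; rfl)⟩

/-- An integral morphism onto a normal integral scheme whose rings of sections over affines embed
compatibly in the function field is an isomorphism. -/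
theorem isIso_of_sections [IsIntegral X] (hX : Pi1.IsNormalScheme X) (g : X' ⟶ X)
    [IsIntegralHom g]
    (h : ∀ (V : X.Opens) (_ : IsAffineOpen V) [Nonempty V],
      ∃ ψ : Γ(X', g ⁻¹ᵁ V) →+* X.functionField,
        Function.Injective ψ ∧ ψ.comp (g.app V).hom = (X.germToFunctionField V).hom) :
    IsIso g := by
  have key : ∀ V : X.affineOpens, Nonempty V.1 → IsIso (g.app V.1) := fun V hne => by
    haveI := hne
    haveI := functionField_isFractionRing_of_isAffineOpen X V.1 V.2
    haveI := isIntegrallyClosed_sections hX V.2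
    obtain ⟨ψ, hψ, hc⟩ := h V.1 V.2
    rw [ConcreteCategory.isIso_iff_bijective]
    exact bijective_of_integral_into_fractions (g.app V.1).hom
      (IsIntegralHom.isIntegral_app g V.1 V.2) ψ hψ hc
  change MorphismProperty.isomorphisms Scheme g
  rw [HasAffineProperty.iff_of_iSup_eq_top (P := MorphismProperty.isomorphisms Scheme)
    (fun i : {V : X.affineOpens // Nonempty V.1} => i.1) ?_]
  · rintro ⟨V, hne⟩
    haveI := key V hne
    haveI : IsAffineHom g := inferInstance
    refine ⟨V.2.preimage g, ?_⟩
    rw [morphismRestrict_appTop]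
    have e' : IsIso (g.app (V.1.ι ''ᵁ ⊤)) := by rw [V.1.ι_image_top]; exact key V hne
    exact IsIso.comp_isIso' e' (Functor.map_isIso _ _)
  · refine top_unique fun x _ => ?_
    obtain ⟨U, hU, hxU, -⟩ := exists_isAffineOpen_mem_and_subset (U := ⊤) (x := x) trivial
    exact Opens.mem_iSup.2 ⟨⟨⟨U, hU⟩, ⟨⟨x, hxU⟩⟩⟩, hxU⟩

theorem isIso_of_rational_section [IsIntegral X] [IsIntegral X'] (hX : Pi1.IsNormalScheme X)
    (g : X' ⟶ X) [IsIntegralHom g] (U : X.Opens) (hU : Dense (U : Set X))
    (s : (U : Scheme.{u}) ⟶ X') (hs : s ≫ g = U.ι) : IsIso g := by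
  refine isIso_of_sections hX g fun V hV _ => ?_
  have hUne : (U : Set X).Nonempty := hU.nonempty
  have hηU : genericPoint X ∈ U := (genericPoint_spec X).mem_open_set_iff U.2 |>.2 (by simpa using hUne)
  have hηV : genericPoint X ∈ V := (genericPoint_spec X).mem_open_set_iff V.2 |>.2 (by
    simpa using (Set.nonempty_coe_sort.1 (inferInstance : Nonempty V)))
  let ψ : Γ(X', g ⁻¹ᵁ V) →+* X.functionField :=
    (s.app (g ⁻¹ᵁ V) ≫ X.presheaf.germ (U.ι ''ᵁ s ⁻¹ᵁ g ⁻¹ᵁ V) (genericPoint X)
      ⟨⟨genericPoint X, hηU⟩, show g (s ⟨genericPoint X, hηU⟩) ∈ V by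
        rw [← Scheme.Hom.comp_apply, hs]; exact hηV, rfl⟩).hom
  have hcomp : ψ.comp (g.app V).hom = (X.germToFunctionField V).hom := by
    change (g.app V ≫ s.app (g ⁻¹ᵁ V) ≫ _).hom = _
    rw [← Category.assoc, ← Scheme.Hom.comp_app]
    congr 1
    have hh := Scheme.Hom.congr_app hs V
    rw [hh, Scheme.Opens.ι_app]
    have gr : ∀ {A B C : X.Opens} (i : op A ⟶ op B) (j : op B ⟶ op C) (hC : genericPoint X ∈ C),
        (X.presheaf.map i ≫ X.presheaf.map j) ≫ X.presheaf.germ C (genericPoint X) hC =
          X.presheaf.germ A (genericPoint X) (i.unop.le (j.unop.le hC)) := fun i j hC => by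
      rw [Category.assoc, TopCat.Presheaf.germ_res', TopCat.Presheaf.germ_res']
    exact gr (homOfLE _).op ((U.ι.opensFunctor).map (eqToHom (congrArg (· ⁻¹ᵁ V) hs))).op _
  refine ⟨ψ, ?_, hcomp⟩
  haveI : Nonempty (g ⁻¹ᵁ V : X'.Opens) :=
    ⟨⟨s ⟨genericPoint X, hηU⟩, show g (s ⟨genericPoint X, hηU⟩) ∈ V by
      rw [← Scheme.Hom.comp_apply, hs]; exact hηV⟩⟩
  letI := (g.app V).hom.toAlgebra
  haveI : Algebra.IsIntegral Γ(X, V) Γ(X', g ⁻¹ᵁ V) :=
    ⟨IsIntegralHom.isIntegral_app g V hV⟩
  rw [RingHom.injective_iff_ker_eq_bot]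
  haveI := RingHom.ker_isPrime ψ
  refine Ideal.eq_bot_of_comap_eq_bot (R := Γ(X, V)) ?_
  rw [RingHom.algebraMap_toAlgebra, RingHom.comap_ker, hcomp, ← RingHom.injective_iff_ker_eq_bot]
  exact AlgebraicGeometry.germ_injective_of_isIntegral X (genericPoint X) hηV

theorem isIso_of_universallyClosed_birational {U V : Scheme.{u}} [IsIntegral U] [IsIntegral V]
    (hN : Pi1.IsNormalScheme V) (h : U ⟶ V) [UniversallyClosed h] [UniversallyInjective h]
    (hgen : h.base (genericPoint U) = genericPoint V)
    (hbir : Function.Bijective (h.residueFieldMap (genericPoint U)).hom) : IsIso h := by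
  haveI : IsAffineHom h := isAffineHom_of_isInducing h
    (Topology.IsClosedEmbedding.of_continuous_injective_isClosedMap h.continuous
      h.injective h.isClosedMap).isInducing h.isClosedMap.isClosed_range
  haveI : IsIntegralHom h := IsIntegralHom.iff_universallyClosed_and_isAffineHom.2 ⟨‹_›, ‹_›⟩
  refine isIso_of_sections hN h fun W hW _ => ?_
  have hηW : genericPoint V ∈ W := (genericPoint_spec V).mem_open_set_iff W.2 |>.2 (by
    simpa using (Set.nonempty_coe_sort.1 (inferInstance : Nonempty W)))
  have hη' : genericPoint U ∈ h ⁻¹ᵁ W := show h.base _ ∈ W by rw [hgen]; exact hηW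
  haveI : Nonempty (h ⁻¹ᵁ W : U.Opens) := ⟨⟨_, hη'⟩⟩
  have hfU : Function.Bijective (U.residue (genericPoint U)).hom :=
    ⟨RingHom.injective _ , U.residue_surjective _⟩
  haveI hfld : IsDomain (V.presheaf.stalk (h.base (genericPoint U))) := by
    rw [hgen]; infer_instance
  have hfV : Function.Injective (V.residue (h.base (genericPoint U))).hom := by
    have : IsField (V.presheaf.stalk (h.base (genericPoint U))) := by
      rw [hgen]; exact (inferInstance : Field V.functionField).toIsField
    letI := this.toField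
    exact RingHom.injective (V.residue (h.base (genericPoint U))).hom
  have hstalk : Function.Bijective (h.stalkMap (genericPoint U)).hom := by
    have hsq : ∀ a, (h.residueFieldMap (genericPoint U)).hom
        ((V.residue (h.base (genericPoint U))).hom a) =
        (U.residue (genericPoint U)).hom ((h.stalkMap (genericPoint U)).hom a) := fun a => by
      rw [← RingHom.comp_apply, ← RingHom.comp_apply, ← CommRingCat.hom_comp,
        ← CommRingCat.hom_comp, Scheme.residue_residueFieldMap]
    refine ⟨fun a b hab => hfV (hbir.1 (by rw [hsq, hsq, hab])), fun z => ?_⟩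
    obtain ⟨w, hw⟩ := hbir.2 ((U.residue _).hom z)
    obtain ⟨a, ha⟩ := V.residue_surjective _ w
    exact ⟨a, hfU.1 (by rw [← hsq, ← hw]; exact congrArg _ ha)⟩
  let e := RingEquiv.ofBijective (h.stalkMap (genericPoint U)).hom hstalk
  let c : V.presheaf.stalk (h.base (genericPoint U)) ⟶ V.functionField :=
    V.presheaf.stalkSpecializes (specializes_of_eq hgen.symm)
  refine ⟨(c.hom.comp e.symm.toRingHom).comp (U.presheaf.germ _ _ hη').hom, ?_, ?_⟩
  · intro a b hab
    simp only [RingHom.comp_apply] at hab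
    refine AlgebraicGeometry.germ_injective_of_isIntegral U (genericPoint U) hη'
      (e.symm.injective ?_)
    exact (show Function.Injective c.hom by
      haveI : IsIso c := by
        dsimp [c]; exact TopCat.Presheaf.stalkCongr V.presheaf (Inseparable.of_eq hgen) |>.isIso_hom
      exact ((ConcreteCategory.isIso_iff_bijective c).1 inferInstance).1) hab
  · ext a
    simp only [RingHom.comp_apply]
    have h1 : (U.presheaf.germ _ _ hη').hom ((h.app W).hom a) =
        e (V.presheaf.germ W _ hη' a) := (h.germ_stalkMap_apply W (genericPoint U) hη' a).symm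
    rw [h1]
    change c.hom (e.symm (e _)) = _
    rw [e.symm_apply_apply]
    exact TopCat.Presheaf.germ_stalkSpecializes_apply _ _ _ _

end Groth.Agent.DivPts
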